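import Groth.Agent.RedCartan.Closed
import Groth.Agent.GrpAct.Orbit

/-!
The closure of an orbit is the translate of the closure of the orbit of a subgroup with proper quotient.
-/

set_option autoImplicit false
set_option backward.isDefEq.respectTransparency false
set_option linter.style.haveILetI false

universe u

open CategoryTheory CategoryTheory.Limits MonoidalCategory CartesianMonoidalCategory MonObj GrpObj AlgebraicGeometry
open Groth.Agent.SubGen (rpt map_rpt exists_rpt rpt_injective rpt_mem_closedPoints)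
open Groth.Agent

noncomputable section

namespace Groth.Agent.AgfOrbitClosure

open Chev Chev.BorelFixed Chev.Borel

variable {k : Type u} [Field k] [IsAlgClosed k]

theorem closure_orbit_eq {G H Y X : Over (Spec (CommRingCat.of k))} [GrpObj G] [GrpObj H] [Smooth G.hom]
    [Smooth H.hom] (i : H ⟶ G) [IsMonHom i] (b : AlgGrp.Action G Y) (o : RP Y) (hY : AGF.IsQuotient i Y b o)
    [IsProper Y.hom] [LocallyOfFiniteType X.hom] (a : AlgGrp.Action G X) (x : RP X) :
    closure (Set.range ⇑(a.orbitMap x).left.base) =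
      ⇑a.act.left.base '' (⇑(snd G X).left.base ⁻¹' closure (Set.range ⇑(i ≫ a.orbitMap x).left.base)) := by
  classical
  haveI := hY.1; haveI := hY.2.1; haveI := hY.2.2.1
  set Z := closure (Set.range ⇑(i ≫ a.orbitMap x).left.base)
  set C := closure (Set.range ⇑(a.orbitMap x).left.base)
  haveI : LocallyOfFiniteType (G ⊗ X).hom := by
    show LocallyOfFiniteType (pullback.fst G.hom X.hom ≫ G.hom)
    infer_instance
  haveI : LocallyOfFiniteType (Y ⊗ X).hom := by
    show LocallyOfFiniteType (pullback.fst Y.hom X.hom ≫ Y.hom)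
    infer_instance
  haveI : JacobsonSpace (G ⊗ X).left := LocallyOfFiniteType.jacobsonSpace (G ⊗ X).hom
  -- a closed set preserved by a translation
  have hstab : ∀ {T : Over (Spec (CommRingCat.of k))} (f : T ⟶ G) (g : RP G) (t : T ⟶ T),
      t ≫ f = (toUnit T ≫ g) * f → ∀ z : RP X,
      rpt z ∈ closure (Set.range ⇑(f ≫ a.orbitMap x).left.base) →
      rpt (lift g z ≫ a.act) ∈ closure (Set.range ⇑(f ≫ a.orbitMap x).left.base) := by
    intro T f g t ht z hz
    let τ : X ⟶ X := lift (toUnit X ≫ g) (𝟙 X) ≫ a.act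
    have e1 : z ≫ τ = lift g z ≫ a.act := by
      simp only [τ, GrpAct.comp_smul, Category.comp_id]
      rw [← Category.assoc, toUnit_unique (z ≫ toUnit X) (𝟙 _), Category.id_comp]
    have e2 : (f ≫ a.orbitMap x) ≫ τ = t ≫ f ≫ a.orbitMap x := by
      simp only [τ, GrpAct.comp_smul, Category.comp_id]
      rw [← Category.assoc t f, ht, GrpAct.comp_orbitMap, GrpAct.comp_orbitMap, GrpAct.mul_smul,
        ← Category.assoc, toUnit_unique ((lift f (toUnit T ≫ x) ≫ a.act) ≫ toUnit X) (toUnit T)]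
    rw [← e1, ← map_rpt]
    refine map_mem_closure τ.left.continuous hz ?_
    rintro _ ⟨y, rfl⟩
    exact ⟨t.left.base y, (congrArg (fun m => m.left.base y) e2).symm⟩
  have hC : ∀ (g : RP G) (z : RP X), rpt z ∈ C → rpt (lift g z ≫ a.act) ∈ C := fun g z hz => by
    have := hstab (𝟙 G) g ((toUnit G ≫ g) * 𝟙 G) (by simp) z (by rwa [Category.id_comp])
    rwa [Category.id_comp] at this
  have hZ : ∀ (h : RP H) (z : RP X), rpt z ∈ Z → rpt (lift (h ≫ i) z ≫ a.act) ∈ Z := fun h z hz =>
    hstab i (h ≫ i) ((toUnit H ≫ h) * 𝟙 H)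
      (by rw [Hom.mul_def, Category.assoc, IsMonHom.mul_hom i, Hom.mul_def, ← Category.assoc (toUnit H) h i]; simp) z hz
  have hZC : Z ⊆ C := closure_mono (by rintro _ ⟨y, rfl⟩; exact ⟨i.left.base y, rfl⟩)
  have hpair : ∀ p : RP (G ⊗ X), p = lift (p ≫ fst G X) (p ≫ snd G X) := fun p => (lift_comp_fst_snd p).symm
  apply subset_antisymm
  · -- the right hand side is closed and contains the orbit
    let m : G ⊗ X ⟶ X := lift (fst G X)⁻¹ (snd G X) ≫ a.act
    let W : Set (G ⊗ X).left := ⇑m.left.base ⁻¹' Z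
    have hW : IsClosed W := isClosed_closure.preimage m.left.continuous
    let π := b.orbitMap o
    let q : G ⊗ X ⟶ Y ⊗ X := π ▷ X
    haveI : LocallyOfFinitePresentation π.left := by
      haveI : IsLocallyNoetherian Y.left := LocallyOfFiniteType.isLocallyNoetherian Y.hom
      haveI : LocallyOfFiniteType π.left := by
        haveI : LocallyOfFiniteType (π.left ≫ Y.hom) := by rw [Over.w]; infer_instance
        exact locallyOfFiniteType_of_comp π.left Y.hom
      infer_instance
    have hsq := Assoc.isPullback_whiskerRight (Z := X) π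
    haveI : UniversallyOpen q.left := MorphismProperty.of_isPullback (P := @UniversallyOpen) hsq inferInstance
    haveI : Surjective q.left := MorphismProperty.of_isPullback (P := @Surjective) hsq inferInstance
    have hmW : ∀ (g : RP G) (z : RP X), rpt (lift g z) ∈ W ↔ rpt (lift g⁻¹ z ≫ a.act) ∈ Z := fun g z => by
      show m.left (rpt (lift g z)) ∈ Z ↔ _
      rw [map_rpt]
      simp only [m, GrpAct.comp_smul, lift_snd, GrpObj.comp_inv, lift_fst]
    have hsat : ∀ w ∈ W, ∀ w', q.left w' = q.left w → w' ∈ W := by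
      intro w hw w' hqw
      by_contra hw'
      have hop : IsOpen (⇑q.left ⁻¹' (⇑q.left '' Wᶜ)) := (q.left.isOpenMap _ hW.isOpen_compl).preimage q.left.continuous
      obtain ⟨w₁, ⟨h1, h2⟩, hc1⟩ := nonempty_inter_closedPoints (Z := W ∩ ⇑q.left ⁻¹' (⇑q.left '' Wᶜ))
        ⟨w, hw, w', hw', hqw⟩ (hW.isLocallyClosed.inter hop.isLocallyClosed)
      obtain ⟨p₁, rfl⟩ := exists_rpt hc1
      obtain ⟨u, hu, hu'⟩ := h2
      rw [map_rpt] at hu'
      have hcl : IsClosed (⇑q.left ⁻¹' {rpt (p₁ ≫ q)}) :=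
        (mem_closedPoints_iff.1 (rpt_mem_closedPoints _)).preimage q.left.continuous
      obtain ⟨w₂, ⟨h3, h4⟩, hc2⟩ := nonempty_inter_closedPoints (Z := Wᶜ ∩ ⇑q.left ⁻¹' {rpt (p₁ ≫ q)})
        ⟨u, hu, hu'⟩ (hW.isOpen_compl.isLocallyClosed.inter hcl.isLocallyClosed)
      obtain ⟨p₂, rfl⟩ := exists_rpt hc2
      rw [Set.mem_preimage, Set.mem_singleton_iff, map_rpt] at h4
      have heq := rpt_injective h4
      rw [hpair p₁] at h1 heq
      rw [hpair p₂] at h3 heq
      set g₁ := p₁ ≫ fst G X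
      set g₂ := p₂ ≫ fst G X
      set z₁ := p₁ ≫ snd G X
      set z₂ := p₂ ≫ snd G X
      simp only [q, lift_whiskerRight] at heq
      have hz : z₂ = z₁ := (lift_snd _ _).symm.trans ((congrArg (fun v => v ≫ snd Y X) heq).trans (lift_snd _ _))
      have hg : g₂ ≫ π = g₁ ≫ π :=
        (lift_fst _ _).symm.trans ((congrArg (fun v => v ≫ fst Y X) heq).trans (lift_fst _ _))
      obtain ⟨p, hp1, hp2⟩ := hY.2.2.2.exists_lift g₁ g₂ hg.symm
      have hg' : g₂ = g₁ * ((p ≫ snd G H) ≫ i) := by
        rw [← hp2, ← hp1, Hom.mul_def, ← Category.assoc]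
        congr 1
        apply CartesianMonoidalCategory.hom_ext <;> simp
      refine h3 ?_
      rw [hz, hg', hmW, _root_.mul_inv_rev, GrpAct.mul_smul, show ((p ≫ snd G H) ≫ i)⁻¹ = (p ≫ snd G H)⁻¹ ≫ i from
        (GrpObj.inv_comp (p ≫ snd G H) i).symm]
      exact hZ _ _ ((hmW g₁ z₁).1 h1)
    have hqW : IsClosed (⇑q.left '' W) := by
      have e : ⇑q.left '' W = (⇑q.left '' Wᶜ)ᶜ := by
        ext v
        refine ⟨?_, fun hv => ?_⟩
        · rintro ⟨w, hw, rfl⟩ ⟨w', hw', he⟩
          exact hw' (hsat w hw w' he)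
        · obtain ⟨w, rfl⟩ := q.left.surjective v
          exact ⟨w, by_contra fun hw => hv ⟨w, hw, rfl⟩, rfl⟩
      rw [e]
      exact (q.left.isOpenMap _ hW.isOpen_compl).isClosed_compl
    haveI : UniversallyClosed (snd Y X).left := by
      show UniversallyClosed (pullback.snd Y.hom X.hom)
      infer_instance
    have hD : IsClosed (⇑(snd Y X).left '' (⇑q.left '' W)) := (snd Y X).left.isClosedMap _ hqW
    have hqs : q ≫ snd Y X = snd G X := whiskerRight_snd _ _
    have heqD : ⇑a.act.left.base '' (⇑(snd G X).left.base ⁻¹' Z) = ⇑(snd Y X).left '' (⇑q.left '' W) := by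
      let σ : G ⊗ X ⟶ G ⊗ X := lift (fst G X) a.act
      let τ : G ⊗ X ⟶ G ⊗ X := lift (fst G X) m
      have hσm : σ ≫ m = snd G X := by
        simp only [σ, m, GrpAct.comp_smul, lift_snd, GrpObj.comp_inv, lift_fst]
        have e := GrpAct.mul_smul a (fst G X)⁻¹ (fst G X) (snd G X)
        rw [inv_mul_cancel, GrpAct.one_smul', lift_fst_snd, Category.id_comp] at e
        exact e.symm
      have hτa : τ ≫ a.act = snd G X := by
        simp only [τ, m, ← GrpAct.mul_smul, mul_inv_cancel, GrpAct.one_smul']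
      have hτs : τ ≫ snd G X = m := lift_snd _ _
      have hσs : σ ≫ snd G X = a.act := lift_snd _ _
      ext v
      constructor
      · rintro ⟨w, hw, rfl⟩
        refine ⟨q.left (σ.left w), ⟨σ.left w, ?_, rfl⟩, ?_⟩
        · show m.left (σ.left w) ∈ Z
          exact (congrArg (fun f => f.left w) hσm).symm ▸ hw
        · exact (congrArg (fun f => f.left (σ.left w)) hqs).trans (congrArg (fun f => f.left w) hσs)
      · rintro ⟨_, ⟨w, hw, rfl⟩, rfl⟩
        refine ⟨τ.left w, ?_, ?_⟩
        · show (snd G X).left (τ.left w) ∈ Z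
          exact (congrArg (fun f => f.left w) hτs).symm ▸ hw
        · exact (congrArg (fun f => f.left w) hτa).trans (congrArg (fun f => f.left w) hqs).symm
    refine closure_minimal ?_ (heqD ▸ hD)
    rintro _ ⟨g, rfl⟩
    refine ⟨(lift (𝟙 G) (toUnit G ≫ x)).left g, ?_, ?_⟩
    · show (snd G X).left _ ∈ Z
      refine subset_closure ⟨(toUnit G ≫ η[H]).left g, ?_⟩
      refine (congrArg (fun f : G ⟶ X => f.left g)
        (show (toUnit G ≫ η[H]) ≫ i ≫ a.orbitMap x = lift (𝟙 G) (toUnit G ≫ x) ≫ snd G X from ?_) :)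
      rw [lift_snd, GrpAct.comp_orbitMap, GrpAct.comp_smul, Category.assoc, IsMonHom.one_hom,
        ← Category.assoc _ (toUnit H) x, toUnit_unique ((toUnit G ≫ η[H]) ≫ toUnit H) (toUnit G), GrpAct.one_smul]
    · exact congrArg (fun f : G ⟶ X => f.left g) (show lift (𝟙 G) (toUnit G ≫ x) ≫ a.act = a.orbitMap x by
        rw [← GrpAct.comp_orbitMap, Category.id_comp])
  · rintro _ ⟨w, hw, rfl⟩
    by_contra hn
    obtain ⟨w', ⟨h1, h2⟩, hc⟩ := nonempty_inter_closedPoints
      (Z := ⇑(snd G X).left.base ⁻¹' Z ∩ (⇑a.act.left.base ⁻¹' C)ᶜ) ⟨w, hw, hn⟩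
      ((isClosed_closure.preimage (snd G X).left.continuous).isLocallyClosed.inter
        (isClosed_closure.preimage a.act.left.continuous).isOpen_compl.isLocallyClosed)
    obtain ⟨p, rfl⟩ := exists_rpt hc
    refine h2 ?_
    show a.act.left (rpt p) ∈ C
    rw [hpair p, map_rpt]
    refine hC _ _ (hZC ?_)
    rw [← map_rpt]
    exact h1

end Groth.Agent.AgfOrbitClosure
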